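import Groth.Agent.An.H26.Cone

/-!
# Compressibility of sheets in branched pieces
-/

open Set Filter Topology unitInterval

namespace Groth.Agent.An.H26.Compress

open Groth.Agent.An.H26.Star
open Groth.Agent.An.H26.Cone
open Groth.Agent.An.H897.Core (Compressible)

/-- A pair `(A, E)` with a contraction `R` of `A` to a point `x` mapping `E` to `E` for `t < 1` and
a push `P` of `E ∪ {x}` into `E` is compressible. -/
theorem compressible {T : Type*} [TopologicalSpace T] {A E : Set T} {x : T} (hE : IsOpen E)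
    (hEA : E ⊆ A) (hxA : x ∈ A) (R P : ℝ → T → T)
    (hR : ContinuousOn (fun q : ℝ × T => R q.1 q.2) (Icc 0 1 ×ˢ A))
    (hP : ContinuousOn (fun q : ℝ × T => P q.1 q.2) (Icc 0 1 ×ˢ (E ∪ {x})))
    (hR0 : ∀ a ∈ A, R 0 a = a) (hR1 : ∀ a ∈ A, R 1 a = x)
    (hRA : ∀ a ∈ A, ∀ t ∈ Icc (0 : ℝ) 1, R t a ∈ A)
    (hRE : ∀ a ∈ E, ∀ t ∈ Ico (0 : ℝ) 1, R t a ∈ E)
    (hP0 : ∀ a ∈ E ∪ {x}, P 0 a = a)
    (hPE : ∀ a ∈ E ∪ {x}, ∀ t ∈ Ioc (0 : ℝ) 1, P t a ∈ E) : Compressible A E := by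
  intro K _ _ _ C hC a haA haC
  have ac : Continuous a := a.continuous
  obtain ⟨φ, hφ0, hφ1, hφ⟩ := exists_continuous_zero_one_of_isClosed hC
    (hE.preimage ac).isClosed_compl (by
      rw [disjoint_left]
      intro k hk hk'
      exact hk' (haC k hk))
  have hφE : ∀ k, a k ∉ E → φ k = 1 := fun k hk => hφ1 hk
  have hmid : ∀ k, R (φ k) (a k) ∈ E ∪ {x} := by
    intro k
    rcases eq_or_lt_of_le (hφ k).2 with h | h
    · right
      rw [h]
      exact hR1 _ (haA k)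
    · left
      refine hRE _ ?_ _ ⟨(hφ k).1, h⟩
      by_contra h'
      rw [hφE k h'] at h
      exact lt_irrefl _ h
  have hEx : E ∪ {x} ⊆ A := union_subset hEA (singleton_subset_iff.2 hxA)
  -- the two halves
  let f' : I × K → T := fun q => R (min 1 (2 * (q.1 : ℝ)) * φ q.2) (a q.2)
  let g' : I × K → T := fun q => P (max 0 (2 * (q.1 : ℝ) - 1) * φ q.2) (R (φ q.2) (a q.2))
  have hf1 : ∀ q : I × K, min 1 (2 * (q.1 : ℝ)) * φ q.2 ∈ Icc (0 : ℝ) 1 := by
    intro q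
    have h1 := (hφ q.2).1
    have h2 := (hφ q.2).2
    have h3 : 0 ≤ min 1 (2 * (q.1 : ℝ)) := le_min zero_le_one (by have := q.1.2.1; linarith)
    have h4 : min 1 (2 * (q.1 : ℝ)) ≤ 1 := min_le_left _ _
    exact ⟨mul_nonneg h3 h1, mul_le_one₀ h4 h1 h2⟩
  have hg1 : ∀ q : I × K, max 0 (2 * (q.1 : ℝ) - 1) * φ q.2 ∈ Icc (0 : ℝ) 1 := by
    intro q
    have h1 := (hφ q.2).1
    have h2 := (hφ q.2).2
    have h3 : 0 ≤ max 0 (2 * (q.1 : ℝ) - 1) := le_max_left _ _
    have h4 : max 0 (2 * (q.1 : ℝ) - 1) ≤ 1 :=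
      max_le zero_le_one (by have := q.1.2.2; linarith)
    exact ⟨mul_nonneg h3 h1, mul_le_one₀ h4 h1 h2⟩
  have hfc : Continuous f' := by
    have h1 : Continuous (fun q : I × K => ((min 1 (2 * (q.1 : ℝ)) * φ q.2, a q.2) : ℝ × T)) := by
      fun_prop
    exact hR.comp_continuous h1 (fun q => ⟨hf1 q, haA q.2⟩)
  have hRφ : Continuous (fun k => R (φ k) (a k)) := by
    have h1 : Continuous (fun k : K => ((φ k, a k) : ℝ × T)) := by fun_prop
    exact hR.comp_continuous h1 (fun k => ⟨hφ k, haA k⟩)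
  have hgc : Continuous g' := by
    have h1 : Continuous (fun q : I × K =>
        ((max 0 (2 * (q.1 : ℝ) - 1) * φ q.2, R (φ q.2) (a q.2)) : ℝ × T)) := by
      refine Continuous.prodMk (by fun_prop) (hRφ.comp continuous_snd)
    exact hP.comp_continuous h1 (fun q => ⟨hg1 q, hmid q.2⟩)
  have hfA : ∀ q, f' q ∈ A := fun q => hRA _ (haA q.2) _ (hf1 q)
  have hgA : ∀ q, g' q ∈ A := by
    intro q
    rcases eq_or_lt_of_le (hg1 q).1 with h | h
    · change P (max 0 (2 * (q.1 : ℝ) - 1) * φ q.2) (R (φ q.2) (a q.2)) ∈ A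
      rw [← h, hP0 _ (hmid q.2)]
      exact hEx (hmid q.2)
    · exact hEA (hPE _ (hmid q.2) _ ⟨h, (hg1 q).2⟩)
  refine ⟨⟨fun q => if (q.1 : ℝ) ≤ 1 / 2 then f' q else g' q, ?_⟩, ?_, ?_, ?_, ?_⟩
  · refine Continuous.if_le hfc hgc (by fun_prop) continuous_const ?_
    intro q hq
    change R (min 1 (2 * (q.1 : ℝ)) * φ q.2) (a q.2) =
      P (max 0 (2 * (q.1 : ℝ) - 1) * φ q.2) (R (φ q.2) (a q.2))
    rw [hq]
    norm_num
    rw [hP0 _ (hmid q.2)]
  · intro k
    change (if ((0 : I) : ℝ) ≤ 1 / 2 then f' (0, k) else g' (0, k)) = a k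
    rw [if_pos (by norm_num)]
    change R (min 1 (2 * ((0 : I) : ℝ)) * φ k) (a k) = a k
    norm_num
    exact hR0 _ (haA k)
  · intro t k
    change (if (t : ℝ) ≤ 1 / 2 then f' (t, k) else g' (t, k)) ∈ A
    split_ifs
    · exact hfA _
    · exact hgA _
  · intro t k hk
    have hk0 : φ k = 0 := hφ0 hk
    change (if (t : ℝ) ≤ 1 / 2 then f' (t, k) else g' (t, k)) = a k
    split_ifs
    · change R (min 1 (2 * (t : ℝ)) * φ k) (a k) = a k
      rw [hk0, mul_zero, hR0 _ (haA k)]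
    · change P (max 0 (2 * (t : ℝ) - 1) * φ k) (R (φ k) (a k)) = a k
      have h1 := hmid k
      rw [hk0] at h1 ⊢
      rw [mul_zero, hP0 _ h1, hR0 _ (haA k)]
  · intro k
    change (if ((1 : I) : ℝ) ≤ 1 / 2 then f' (1, k) else g' (1, k)) ∈ E
    rw [if_neg (by norm_num)]
    change P (max 0 (2 * ((1 : I) : ℝ) - 1) * φ k) (R (φ k) (a k)) ∈ E
    have h2 : max 0 (2 * ((1 : I) : ℝ) - 1) = 1 := by norm_num
    rw [h2, one_mul]
    rcases eq_or_lt_of_le (hφ k).1 with h | h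
    · have h1 := hmid k
      rw [← h] at h1 ⊢
      rw [hP0 _ h1, hR0 _ (haA k)]
      by_contra h'
      rw [hφE k h'] at h
      exact zero_ne_one h
    · exact hPE _ (hmid k) _ ⟨h, (hφ k).2⟩

theorem rad_swap (s h : ℂ) (t : ℝ) : rad h t s = rad s (1 - t) h := by
  simp only [rad]
  push_cast
  ring

/-- A sheet over a convex set `Q` adherent to `s` is compressible in the branched piece. -/
theorem compressible_sheet {F : Type*} [TopologicalSpace F] [T2Space F] {p : F → ℂ}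
    (hp : Continuous p) (hcl : IsClosedMap p) {S : Set ℂ} (hcov : IsCoveringMapOn p Sᶜ)
    (hfin : ∀ z, (p ⁻¹' {z}).Finite) {s : ℂ} {W : Set ℂ} (c : Radial p s W) (hW : IsOpen W)
    (hWs : StarConvex ℝ s W) (hs : s ∈ W) {h : ℂ} {Q : Set ℂ} (k : Radial p h Q)
    (hQ : IsOpen Q) (hQc : Convex ℝ Q) (hh : h ∈ Q) (hQS : Q ⊆ Sᶜ) (hQW : Q ⊆ W) (hsQ : s ∉ Q)
    (hQs : ∀ z ∈ Q, ∀ t ∈ Ico (0 : ℝ) 1, rad s t z ∈ Q) {y : F} (hy : p y = h) :
    k.D y ⊆ c.D (c.H 1 y) ∧ Compressible (c.D (c.H 1 y)) (k.D y) := by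
  classical
  have hQh : StarConvex ℝ h Q := hQc hh
  set x := c.H 1 y with hx
  have hyW : p y ∈ W := by rw [hy]; exact hQW hh
  have hxs : p x = s := c.proj_one hyW
  have hyx : y ∈ c.D x := c.mem_D_self hyW
  have hyE : y ∈ k.D y := k.mem_D_fibre hy hh
  have hEA : k.D y ⊆ c.D x := by
    intro e he
    have h0 : k.H 0 e ∈ c.D x := by
      refine c.mem_D_of_isPreconnected hp (hfin s) hW isPreconnected_Icc (k.cont_x he.1) ?_
        (u := (1 : ℝ)) (v := (0 : ℝ)) ⟨zero_le_one, le_rfl⟩ ⟨le_rfl, zero_le_one⟩ ?_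
      · intro u hu
        rw [k.proj u e hu he.1]
        exact hQW (rad_mem hQh he.1 hu)
      · rw [he.2]; exact hyx
    rwa [k.zero e he.1] at h0
  refine ⟨hEA, ?_⟩
  obtain ⟨sec, hsc, hsp, hsy⟩ := exists_section hcov hQc hQS hh hy
  have hse : ∀ e ∈ k.D y, sec (p e) = e := by
    intro e he
    have h1 : ContinuousOn (fun t : ℝ => sec (rad h t (p e))) (Icc 0 1) := by
      have h2 : ContinuousOn (fun t : ℝ => rad h t (p e)) (Icc 0 1) := by
        have h3 : Continuous (fun t : ℝ => ((t, p e) : ℝ × ℂ)) := by fun_prop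
        exact ((continuous_rad h).comp h3).continuousOn
      exact hsc.comp h2 (fun t ht => rad_mem hQh he.1 ht)
    have h4 := lift_unique hcov isPreconnected_Icc h1 (k.cont_x he.1) (fun t ht => by
      rw [hsp _ (rad_mem hQh he.1 ht), k.proj t e ht he.1]) (fun t ht => by
      rw [hsp _ (rad_mem hQh he.1 ht)]
      exact hQS (rad_mem hQh he.1 ht)) (u := (1 : ℝ)) ⟨zero_le_one, le_rfl⟩ (by
      simp only [rad_one]
      rw [hsy, he.2]) 0 ⟨le_rfl, zero_le_one⟩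
    simp only [rad_zero] at h4
    rw [h4, k.zero e he.1]
  have hsE : ∀ z ∈ Q, sec z ∈ k.D y := by
    intro z hz
    exact k.mem_D_of_isPreconnected hp (hfin h) hQ hQc.isPreconnected hsc
      (fun u hu => by rw [hsp u hu]; exact hu) hh hz (by rw [hsy]; exact hyE)
  let g : ℂ → F := fun z => if z = s then x else sec z
  have hgs : g s = x := by simp only [g, if_true]
  have hgQ : ∀ z ∈ Q, g z = sec z := by
    intro z hz
    have : z ≠ s := fun h => hsQ (h ▸ hz)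
    simp only [g, if_neg this]
  have hpg : ∀ z ∈ Q ∪ {s}, p (g z) = z := by
    rintro z (hz | hz)
    · rw [hgQ z hz, hsp z hz]
    · rw [mem_singleton_iff.1 hz, hgs, hxs]
  have hgA : ∀ z ∈ Q ∪ {s}, g z ∈ c.D x := by
    rintro z (hz | hz)
    · rw [hgQ z hz]; exact hEA (hsE z hz)
    · rw [mem_singleton_iff.1 hz, hgs]; exact c.mem_D_fibre hxs hs
  have hgc : ContinuousOn g (Q ∪ {s}) := by
    rintro z (hz | hz)
    · have h1 : ContinuousAt sec z := hsc.continuousAt (hQ.mem_nhds hz)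
      refine ContinuousAt.continuousWithinAt (h1.congr ?_)
      filter_upwards [hQ.mem_nhds hz] with w hw
      exact (hgQ w hw).symm
    · rw [mem_singleton_iff.1 hz]
      change Tendsto g (𝓝[Q ∪ {s}] s) (𝓝 (g s))
      rw [hgs, c.nhds_D hp hcl (hfin s) hW hs hxs]
      refine tendsto_inf.2 ⟨?_, ?_⟩
      · rw [tendsto_principal]
        filter_upwards [self_mem_nhdsWithin] with w hw
        exact hgA w hw
      · rw [tendsto_comap_iff]
        have h2 : Tendsto (fun w : ℂ => w) (𝓝[Q ∪ {s}] s) (𝓝 s) := nhdsWithin_le_nhds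
        refine h2.congr' ?_
        filter_upwards [self_mem_nhdsWithin] with w hw
        exact (hpg w hw).symm
  have hpE : ∀ a ∈ k.D y ∪ {x}, p a ∈ Q ∪ {s} := by
    rintro a (ha | ha)
    · exact Or.inl ha.1
    · right
      rw [mem_singleton_iff.1 ha]; exact hxs
  have hpush : ∀ z ∈ Q ∪ {s}, ∀ t ∈ Ioc (0 : ℝ) 1, rad h (t / 2) z ∈ Q := by
    rintro z (hz | hz) t ht
    · exact rad_mem hQh hz ⟨by linarith [ht.1], by linarith [ht.2]⟩
    · rw [mem_singleton_iff.1 hz, rad_swap]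
      exact hQs h hh _ ⟨by linarith [ht.2], by linarith [ht.1]⟩
  have hpush' : ∀ z ∈ Q ∪ {s}, ∀ t ∈ Icc (0 : ℝ) 1, rad h (t / 2) z ∈ Q ∪ {s} := by
    intro z hz t ht
    rcases eq_or_lt_of_le ht.1 with h0 | h0
    · rw [← h0, zero_div, rad_zero]; exact hz
    · exact Or.inl (hpush z hz t ⟨h0, ht.2⟩)
  refine compressible (x := x) (k.isOpen_D hp (hfin h) hQ) hEA (c.mem_D_fibre hxs hs) c.H
    (fun t a => g (rad h (t / 2) (p a))) (c.cont.mono (prod_mono_right fun a ha => ha.1)) ?_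
    (fun a ha => c.zero a ha.1) (fun a ha => ha.2)
    (fun a ha t ht => c.H_mem_D hp (hfin s) hW hWs ha ht) ?_ ?_ ?_
  · have h1 : Continuous (fun q : ℝ × F => rad h (q.1 / 2) (p q.2)) := by
      have h2 : Continuous (fun q : ℝ × F => ((q.1 / 2, p q.2) : ℝ × ℂ)) := by fun_prop
      exact (continuous_rad h).comp h2
    exact hgc.comp h1.continuousOn (fun q hq => hpush' _ (hpE _ hq.2) _ hq.1)
  · intro a ha t ht
    have hcx := c.cont_x (hQW ha.1)
    refine k.mem_D_of_isPreconnected hp (hfin h) hQ isPreconnected_Ico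
      (hcx.mono Ico_subset_Icc_self) ?_ (u := (0 : ℝ)) ⟨le_rfl, zero_lt_one⟩ ht ?_
    · intro u hu
      rw [c.proj u a ⟨hu.1, hu.2.le⟩ (hQW ha.1)]
      exact hQs _ ha.1 u hu
    · rw [c.zero a (hQW ha.1)]; exact ha
  · intro a ha
    rw [zero_div, rad_zero]
    rcases ha with ha | ha
    · rw [hgQ _ ha.1, hse a ha]
    · rw [mem_singleton_iff.1 ha, hxs, hgs]
  · intro a ha t ht
    have h1 := hpush _ (hpE a ha) t ht
    rw [hgQ _ h1]
    exact hsE _ h1

end Groth.Agent.An.H26.Compress
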