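import Mathlib.Topology.Homotopy.Lifting
import Mathlib.Topology.Separation.Hausdorff
import Mathlib.Analysis.Convex.Star
import Mathlib.Analysis.Complex.Basic

/-!
# Lifting radial contractions through a finite branched covering of the plane

Let `p : F → ℂ` be a continuous closed map with finite fibres, `F` Hausdorff, which is a covering
outside `S`, and let `W` be star-shaped about `s` with `W \ {s}` disjoint from `S`.  The radial
contraction of `W` to `s` lifts to a homotopy of `p ⁻¹' W` which ends in the fibre over `s`.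
-/

open Set Filter Topology unitInterval

namespace Groth.Agent.An.H26.Star

variable {F : Type*} [TopologicalSpace F] {p : F → ℂ}

/-- The radial contraction towards `s`. -/
noncomputable def rad (s : ℂ) (t : ℝ) (z : ℂ) : ℂ := s + ((1 - t : ℝ) : ℂ) * (z - s)

theorem rad_zero (s z : ℂ) : rad s 0 z = z := by simp [rad]

theorem rad_one (s z : ℂ) : rad s 1 z = s := by simp [rad]

theorem rad_self (s : ℂ) (t : ℝ) : rad s t s = s := by simp [rad]

theorem rad_sub (s z : ℂ) (t : ℝ) : rad s t z - s = ((1 - t : ℝ) : ℂ) * (z - s) := by simp [rad]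

theorem rad_ne {s z : ℂ} (hz : z ≠ s) {t : ℝ} (ht : t < 1) : rad s t z ≠ s := by
  intro h
  have h2 := rad_sub s z t
  rw [h, sub_self] at h2
  rcases mul_eq_zero.1 h2.symm with h3 | h3
  · have : (1 - t : ℝ) = 0 := by exact_mod_cast h3
    linarith
  · exact hz (sub_eq_zero.1 h3)

theorem continuous_rad (s : ℂ) : Continuous (fun q : ℝ × ℂ => rad s q.1 q.2) := by
  unfold rad
  fun_prop

theorem rad_mem {s : ℂ} {W : Set ℂ} (hW : StarConvex ℝ s W) {z : ℂ} (hz : z ∈ W) {t : ℝ}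
    (ht : t ∈ Icc (0 : ℝ) 1) : rad s t z ∈ W := by
  have h := hW hz ht.1 (sub_nonneg.2 ht.2) (by ring)
  convert h using 1
  simp only [rad, Complex.real_smul]
  push_cast
  ring

theorem norm_rad_sub (s z : ℂ) {t : ℝ} (ht : t ≤ 1) :
    ‖rad s t z - s‖ = (1 - t) * ‖z - s‖ := by
  rw [rad_sub, norm_mul, Complex.norm_real, Real.norm_of_nonneg (by linarith)]

section nhds

/-- Neighbourhoods of the points of a fibre of a closed map, given separating open sets. -/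
theorem nhds_eq (hp : Continuous p) (hcl : IsClosedMap p) {s : ℂ} {O : F → Set F}
    (hO : ∀ y, p y = s → IsOpen (O y) ∧ y ∈ O y)
    (hd : ∀ y y', p y = s → p y' = s → y ≠ y' → Disjoint (O y) (O y')) {y : F} (hy : p y = s) :
    𝓝 y = 𝓟 (O y) ⊓ comap p (𝓝 s) := by
  apply le_antisymm
  · refine le_inf (le_principal_iff.2 ((hO y hy).1.mem_nhds (hO y hy).2)) ?_
    rw [← map_le_iff_le_comap, ← hy]
    exact hp.continuousAt
  · intro N hN
    obtain ⟨N', hN', hN'o, hyN'⟩ := mem_nhds_iff.1 hN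
    set Q : Set F := N' ∪ ⋃ (y' : F) (_ : p y' = s ∧ y' ≠ y), O y' with hQ
    have hQo : IsOpen Q :=
      hN'o.union (isOpen_iUnion fun y' => isOpen_iUnion fun h => (hO y' h.1).1)
    have hZ : IsClosed (p '' Qᶜ) := hcl _ hQo.isClosed_compl
    have hs : s ∉ p '' Qᶜ := by
      rintro ⟨x, hx, hxs⟩
      apply hx
      by_cases h : x = y
      · left; rw [h]; exact hyN'
      · right
        exact mem_iUnion₂.2 ⟨x, ⟨hxs, h⟩, (hO x hxs).2⟩
    have hV : (p '' Qᶜ)ᶜ ∈ 𝓝 s := hZ.isOpen_compl.mem_nhds hs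
    refine mem_inf_of_inter (mem_principal_self (O y)) (preimage_mem_comap hV) ?_
    rintro x ⟨hxO, hxV⟩
    have hxQ : x ∈ Q := by
      by_contra h
      exact hxV ⟨x, h, rfl⟩
    rcases hxQ with h | h
    · exact hN' h
    · obtain ⟨y', ⟨h1, h2⟩, h3⟩ := mem_iUnion₂.1 h
      exact absurd h3 (disjoint_left.1 (hd y y' hy h1 h2.symm) hxO)

/-- Separating open sets for a finite fibre. -/
theorem exists_sep [T2Space F] {s : ℂ} (hfin : (p ⁻¹' {s}).Finite) :
    ∃ O : F → Set F, (∀ y, p y = s → IsOpen (O y) ∧ y ∈ O y) ∧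
      (∀ y y', p y = s → p y' = s → y ≠ y' → Disjoint (O y) (O y')) := by
  obtain ⟨U, hU, hd⟩ := hfin.t2_separation
  refine ⟨U, fun y _ => ⟨(hU y).2, (hU y).1⟩, fun y y' hy hy' hne => ?_⟩
  exact hd (show y ∈ p ⁻¹' {s} from hy) (show y' ∈ p ⁻¹' {s} from hy') hne

/-- A small ball around `s` has preimage contained in the union of given open sets. -/
theorem exists_ball (hcl : IsClosedMap p) {s : ℂ} {O : F → Set F}
    (hO : ∀ y, p y = s → IsOpen (O y) ∧ y ∈ O y) :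
    ∃ r : ℝ, 0 < r ∧ ∀ x, ‖p x - s‖ < r → ∃ y, p y = s ∧ x ∈ O y := by
  set Q : Set F := ⋃ (y' : F) (_ : p y' = s), O y' with hQ
  have hQo : IsOpen Q := isOpen_iUnion fun y' => isOpen_iUnion fun h => (hO y' h).1
  have hZ : IsClosed (p '' Qᶜ) := hcl _ hQo.isClosed_compl
  have hs : s ∉ p '' Qᶜ := by
    rintro ⟨x, hx, hxs⟩
    exact hx (mem_iUnion₂.2 ⟨x, hxs, (hO x hxs).2⟩)
  have hV : (p '' Qᶜ)ᶜ ∈ 𝓝 s := hZ.isOpen_compl.mem_nhds hs
  obtain ⟨r, hr, hrV⟩ := Metric.mem_nhds_iff.1 hV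
  refine ⟨r, hr, fun x hx => ?_⟩
  have hxV : p x ∈ (p '' Qᶜ)ᶜ := hrV (by rw [Metric.mem_ball, dist_eq_norm]; exact hx)
  have hxQ : x ∈ Q := by
    by_contra h
    exact hxV ⟨x, h, rfl⟩
  obtain ⟨y, h1, h2⟩ := mem_iUnion₂.1 hxQ
  exact ⟨y, h1, h2⟩

/-- A connected family of points lying in the union of the disjoint sets `O y` stays in one. -/
theorem stay {X : Type*} [TopologicalSpace X] {C : Set X} (hC : IsPreconnected C) {f : X → F}
    (hf : ContinuousOn f C) {s : ℂ} {O : F → Set F}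
    (hO : ∀ y, p y = s → IsOpen (O y) ∧ y ∈ O y)
    (hd : ∀ y y', p y = s → p y' = s → y ≠ y' → Disjoint (O y) (O y'))
    (hsub : ∀ c ∈ C, ∃ y, p y = s ∧ f c ∈ O y) {y : F} (hy : p y = s) {c c' : X} (hc : c ∈ C)
    (hc' : c' ∈ C) (h : f c ∈ O y) : f c' ∈ O y := by
  have h1 : IsPreconnected (f '' C) := hC.image f hf
  have h2 : f '' C ⊆ O y ∪ ⋃ (y' : F) (_ : p y' = s ∧ y' ≠ y), O y' := by
    rintro _ ⟨d, hdC, rfl⟩
    obtain ⟨y', h3, h4⟩ := hsub d hdC
    by_cases h5 : y' = y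
    · left; rw [← h5]; exact h4
    · right; exact mem_iUnion₂.2 ⟨y', ⟨h3, h5⟩, h4⟩
  have h6 : Disjoint (O y) (⋃ (y' : F) (_ : p y' = s ∧ y' ≠ y), O y') := by
    rw [disjoint_iUnion_right]
    intro y'
    rw [disjoint_iUnion_right]
    intro h
    exact hd y y' hy h.1 h.2.symm
  exact h1.subset_left_of_subset_union (hO y hy).1
    (isOpen_iUnion fun y' => isOpen_iUnion fun h => (hO y' h.1).1) h6 h2
    ⟨f c, mem_image_of_mem f hc, h⟩ (mem_image_of_mem f hc')

end nhds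

/-- The lift of the radial contraction away from its end. -/
theorem exists_pre {S : Set ℂ} (hcov : IsCoveringMapOn p Sᶜ) {s : ℂ} {W : Set ℂ}
    (hp : Continuous p)
    (hW : StarConvex ℝ s W) (hWS : W \ {s} ⊆ Sᶜ) :
    ∃ H : ℝ → F → F,
      ContinuousOn (fun q : ℝ × F => H q.1 q.2)
        {q : ℝ × F | (0 ≤ q.1 ∧ q.1 < 1) ∧ p q.2 ∈ W ∧ p q.2 ≠ s} ∧
      (∀ x, p x ∈ W → p x ≠ s → H 0 x = x) ∧
      (∀ t x, 0 ≤ t → t < 1 → p x ∈ W → p x ≠ s → p (H t x) = rad s t (p x)) := by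
  classical
  set A : Set (ℝ × F) := {q : ℝ × F | (0 ≤ q.1 ∧ q.1 < 1) ∧ p q.2 ∈ W ∧ p q.2 ≠ s} with hA
  have cov : IsCoveringMap (Sᶜ.restrictPreimage p) := hcov.isCoveringMap_restrictPreimage
  have key : ∀ (u : I) (a : A), rad s ((u : ℝ) * a.1.1) (p a.1.2) ∈ Sᶜ := by
    intro u a
    have hu0 : 0 ≤ (u : ℝ) := u.2.1
    have hu1 : (u : ℝ) ≤ 1 := u.2.2
    have ht0 : 0 ≤ a.1.1 := a.2.1.1
    have ht1 : a.1.1 < 1 := a.2.1.2
    have h1 : (u : ℝ) * a.1.1 < 1 := by nlinarith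
    refine hWS ⟨rad_mem hW a.2.2.1 ⟨mul_nonneg hu0 ht0, h1.le⟩, ?_⟩
    exact rad_ne a.2.2.2 h1
  let Hm : C(I × A, (Sᶜ : Set ℂ)) :=
    ⟨fun q => ⟨rad s ((q.1 : ℝ) * q.2.1.1) (p q.2.1.2), key q.1 q.2⟩, by
      refine Continuous.subtype_mk ?_ _
      have h1 : Continuous (fun q : I × A => (((q.1 : ℝ) * q.2.1.1, p q.2.1.2) : ℝ × ℂ)) := by
        fun_prop
      exact (continuous_rad s).comp h1⟩
  have hmem : ∀ a : A, p a.1.2 ∈ Sᶜ := fun a => hWS ⟨a.2.2.1, a.2.2.2⟩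
  let f : C(A, p ⁻¹' (Sᶜ : Set ℂ)) := ⟨fun a => ⟨a.1.2, hmem a⟩, by fun_prop⟩
  have H_0 : ∀ a, Hm (0, a) = (Sᶜ.restrictPreimage p) (f a) := by
    intro a
    apply Subtype.ext
    change rad s (((0 : I) : ℝ) * a.1.1) (p a.1.2) = p a.1.2
    rw [Set.Icc.coe_zero, zero_mul, rad_zero]
  let G : C(I × A, p ⁻¹' (Sᶜ : Set ℂ)) := cov.liftHomotopy Hm f H_0
  have hG1 : ∀ q, p ((G q : p ⁻¹' (Sᶜ : Set ℂ)) : F) = rad s ((q.1 : ℝ) * q.2.1.1) (p q.2.1.2) := by
    intro q
    have := congrFun (cov.liftHomotopy_lifts Hm f H_0) q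
    exact congrArg Subtype.val this
  have hG0 : ∀ a, G (0, a) = f a := cov.liftHomotopy_zero Hm f H_0
  refine ⟨fun t x => if h : (t, x) ∈ A then (G (1, ⟨(t, x), h⟩) : F) else x, ?_, ?_, ?_⟩
  · rw [continuousOn_iff_continuous_domRestrict]
    have h1 : Continuous (fun a : A => ((G (1, a) : p ⁻¹' (Sᶜ : Set ℂ)) : F)) :=
      continuous_subtype_val.comp (G.continuous.comp (by fun_prop))
    refine h1.congr fun a => ?_
    have ha : ((a : ℝ × F).1, (a : ℝ × F).2) ∈ A := a.2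
    simp only [domRestrict_apply]
    rw [dif_pos ha]
  · intro x hx hxs
    have hmA : ((0 : ℝ), x) ∈ A := ⟨⟨le_rfl, zero_lt_one⟩, hx, hxs⟩
    simp only
    rw [dif_pos hmA]
    have h2 : (fun u : I => G (u, ⟨(0, x), hmA⟩)) = fun _ => f ⟨(0, x), hmA⟩ := by
      refine cov.eq_of_comp_eq (G.continuous.comp (by fun_prop)) continuous_const ?_ 0 (hG0 _)
      funext u
      apply Subtype.ext
      change p (G (u, ⟨(0, x), hmA⟩) : F) = p x
      rw [hG1]
      simp only [mul_zero, rad_zero]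
    have h3 := congrFun h2 1
    exact congrArg Subtype.val h3
  · intro t x h0 h1 hx hxs
    have hmA : (t, x) ∈ A := ⟨⟨h0, h1⟩, hx, hxs⟩
    change p (if h : (t, x) ∈ A then (G (1, ⟨(t, x), h⟩) : F) else x) = _
    rw [dif_pos hmA, hG1]
    change rad s ((1 : ℝ) * t) (p x) = _
    rw [one_mul]

/-- The lift of the radial contraction of `W` towards `s`. -/
theorem exists_star [T2Space F] (hp : Continuous p) (hcl : IsClosedMap p) {S : Set ℂ}
    (hcov : IsCoveringMapOn p Sᶜ) {s : ℂ} (hfin : (p ⁻¹' {s}).Finite) {W : Set ℂ}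
    (hW : StarConvex ℝ s W) (hWS : W \ {s} ⊆ Sᶜ) :
    ∃ H : ℝ → F → F, ContinuousOn (fun q : ℝ × F => H q.1 q.2) (Icc 0 1 ×ˢ (p ⁻¹' W)) ∧
      (∀ x, p x ∈ W → H 0 x = x) ∧
      (∀ t x, t ∈ Icc (0 : ℝ) 1 → p x ∈ W → p (H t x) = rad s t (p x)) ∧
      (∀ t x, p x = s → H t x = x) := by
  classical
  obtain ⟨G, hGc, hG0, hGp⟩ := exists_pre hcov hp hW hWS
  obtain ⟨O, hO, hd⟩ := exists_sep hfin
  obtain ⟨r, hr, hball⟩ := exists_ball hcl hO
  -- for fixed `x`, the path `t ↦ G t x`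
  have hGx : ∀ x, p x ∈ W → p x ≠ s → ContinuousOn (fun t => G t x) (Ico 0 1) := by
    intro x hx hxs
    have h1 : ContinuousOn (fun t : ℝ => ((t, x) : ℝ × F)) (Ico 0 1) := by fun_prop
    exact hGc.comp h1 (fun t ht => ⟨ht, hx, hxs⟩)
  have hlim : ∀ x, p x ∈ W → p x ≠ s →
      ∃ y, p y = s ∧ Tendsto (fun t => G t x) (𝓝[Ico 0 1] (1 : ℝ)) (𝓝 y) := by
    intro x hx hxs
    obtain ⟨t0, ht0, ht01, hrt⟩ : ∃ t0 : ℝ, 0 ≤ t0 ∧ t0 < 1 ∧ (1 - t0) * ‖p x - s‖ < r := by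
      have hn : 0 < ‖p x - s‖ := norm_pos_iff.2 (sub_ne_zero.2 hxs)
      refine ⟨max 0 (1 - r / (2 * ‖p x - s‖)), le_max_left _ _, ?_, ?_⟩
      · apply max_lt zero_lt_one
        have : 0 < r / (2 * ‖p x - s‖) := by positivity
        linarith
      · have h1 : 1 - max 0 (1 - r / (2 * ‖p x - s‖)) ≤ r / (2 * ‖p x - s‖) := by
          have := le_max_right 0 (1 - r / (2 * ‖p x - s‖))
          linarith
        calc (1 - max 0 (1 - r / (2 * ‖p x - s‖))) * ‖p x - s‖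
            ≤ (r / (2 * ‖p x - s‖)) * ‖p x - s‖ := mul_le_mul_of_nonneg_right h1 hn.le
          _ = r / 2 := by field_simp
          _ < r := by linarith
    have hsub : ∀ t ∈ Ico t0 1, ∃ y, p y = s ∧ G t x ∈ O y := by
      intro t ht
      apply hball
      rw [hGp t x (ht0.trans ht.1) ht.2 hx hxs, norm_rad_sub _ _ ht.2.le]
      refine lt_of_le_of_lt ?_ hrt
      apply mul_le_mul_of_nonneg_right _ (norm_nonneg _)
      linarith [ht.1]
    obtain ⟨y, hy, hyO⟩ := hsub t0 ⟨le_rfl, ht01⟩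
    refine ⟨y, hy, ?_⟩
    rw [nhds_eq hp hcl hO hd hy]
    refine tendsto_inf.2 ⟨?_, ?_⟩
    · rw [tendsto_principal]
      have h1 : Ico t0 1 ∈ 𝓝[Ico 0 1] (1 : ℝ) := by
        have h2 : Ioi t0 ∈ 𝓝 (1 : ℝ) := Ioi_mem_nhds ht01
        filter_upwards [mem_nhdsWithin_of_mem_nhds h2, self_mem_nhdsWithin] with t h3 h4
        exact ⟨le_of_lt h3, h4.2⟩
      filter_upwards [h1] with t ht
      exact stay isPreconnected_Ico ((hGx x hx hxs).mono (Ico_subset_Ico_left ht0)) hO hd hsub hy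
        ⟨le_rfl, ht01⟩ ht hyO
    · rw [tendsto_comap_iff]
      have h1 : Tendsto (fun t : ℝ => rad s t (p x)) (𝓝[Ico 0 1] (1 : ℝ)) (𝓝 s) := by
        have h2 : Tendsto (fun t : ℝ => rad s t (p x)) (𝓝 (1 : ℝ)) (𝓝 (rad s 1 (p x))) := by
          have h3 : Continuous (fun t : ℝ => ((t, p x) : ℝ × ℂ)) := by fun_prop
          exact ((continuous_rad s).comp h3).tendsto 1
        rw [rad_one] at h2
        exact h2.mono_left nhdsWithin_le_nhds
      refine h1.congr' ?_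
      filter_upwards [self_mem_nhdsWithin] with t ht
      exact (hGp t x ht.1 ht.2 hx hxs).symm
  choose! L hLs hLt using hlim
  -- the homotopy
  let H : ℝ → F → F := fun t x => if p x = s then x else if t < 1 then G t x else L x
  have H1 : ∀ t x, p x = s → H t x = x := fun t x h => by simp only [H, if_pos h]
  have H2 : ∀ t x, p x ≠ s → t < 1 → H t x = G t x := fun t x h h' => by
    simp only [H, if_neg h, if_pos h']
  have H3 : ∀ t x, p x ≠ s → 1 ≤ t → H t x = L x := fun t x h h' => by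
    simp only [H, if_neg h, if_neg (not_lt.2 h')]
  have Hp : ∀ t x, t ∈ Icc (0 : ℝ) 1 → p x ∈ W → p (H t x) = rad s t (p x) := by
    intro t x ht hx
    by_cases hxs : p x = s
    · rw [H1 t x hxs, hxs, rad_self]
    · rcases lt_or_ge t 1 with h | h
      · rw [H2 t x hxs h, hGp t x ht.1 h hx hxs]
      · have ht1 : t = 1 := le_antisymm ht.2 h
        rw [H3 t x hxs h, hLs x hx hxs, ht1, rad_one]
  have H0 : ∀ x, p x ∈ W → H 0 x = x := by
    intro x hx
    by_cases hxs : p x = s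
    · exact H1 0 x hxs
    · rw [H2 0 x hxs zero_lt_one, hG0 x hx hxs]
  -- continuity of the individual paths
  have hHx : ∀ x, p x ∈ W → ContinuousOn (fun t => H t x) (Icc 0 1) := by
    intro x hx
    by_cases hxs : p x = s
    · have : (fun t => H t x) = fun _ => x := by funext t; exact H1 t x hxs
      rw [this]
      exact continuousOn_const
    · intro t ht
      rcases lt_or_ge t 1 with h | h
      · have h1 : ContinuousWithinAt (fun t => G t x) (Ico 0 1) t := hGx x hx hxs t ⟨ht.1, h⟩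
        have h2 : ContinuousWithinAt (fun t => H t x) (Ico 0 1) t :=
          h1.congr (fun u hu => H2 u x hxs hu.2) (H2 t x hxs h)
        refine h2.mono_of_mem_nhdsWithin ?_
        have h3 : Iio (1 : ℝ) ∈ 𝓝 t := Iio_mem_nhds h
        filter_upwards [mem_nhdsWithin_of_mem_nhds h3, self_mem_nhdsWithin] with u hu hu'
        exact ⟨hu'.1, hu⟩
      · have ht1 : t = 1 := le_antisymm ht.2 h
        subst ht1
        have h4 : Icc (0 : ℝ) 1 = Ico 0 1 ∪ {1} := (Ico_union_right zero_le_one).symm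
        rw [h4]
        refine ContinuousWithinAt.union ?_ continuousWithinAt_singleton
        change Tendsto (fun t => H t x) (𝓝[Ico 0 1] (1 : ℝ)) (𝓝 (H 1 x))
        rw [H3 1 x hxs le_rfl]
        refine (hLt x hx hxs).congr' ?_
        filter_upwards [self_mem_nhdsWithin] with u hu
        exact (H2 u x hxs hu.2).symm
  -- points of the fibre over `s` which are close stay close
  have hstay : ∀ x, p x ∈ W → ∀ t1 t : ℝ, 0 ≤ t1 → t1 ≤ t → t ≤ 1 →
      (1 - t1) * ‖p x - s‖ < r → ∀ y, p y = s → H t1 x ∈ O y → H t x ∈ O y := by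
    intro x hx t1 t h0 h1 h2 h3 y hy hyO
    have hsub : ∀ u ∈ Icc t1 1, ∃ y, p y = s ∧ H u x ∈ O y := by
      intro u hu
      apply hball
      rw [Hp u x ⟨h0.trans hu.1, hu.2⟩ hx, norm_rad_sub _ _ hu.2]
      refine lt_of_le_of_lt ?_ h3
      apply mul_le_mul_of_nonneg_right _ (norm_nonneg _)
      linarith [hu.1]
    exact stay isPreconnected_Icc ((hHx x hx).mono (Icc_subset_Icc_left h0)) hO hd hsub hy
      ⟨le_rfl, h1.trans h2⟩ ⟨h1, h2⟩ hyO
  refine ⟨H, ?_, H0, Hp, H1⟩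
  rintro ⟨t0, x0⟩ ⟨ht0, hx0⟩
  simp only at ht0 hx0
  have hx0 : p x0 ∈ W := hx0
  by_cases hc : p x0 ≠ s ∧ t0 < 1
  · -- away from the end
    have h1 := hGc (t0, x0) ⟨⟨ht0.1, hc.2⟩, hx0, hc.1⟩
    have h2 : ContinuousWithinAt (fun q : ℝ × F => H q.1 q.2)
        {q : ℝ × F | (0 ≤ q.1 ∧ q.1 < 1) ∧ p q.2 ∈ W ∧ p q.2 ≠ s} (t0, x0) :=
      h1.congr (fun q hq => H2 q.1 q.2 hq.2.2 hq.1.2) (H2 t0 x0 hc.1 hc.2)
    refine h2.mono_of_mem_nhdsWithin ?_
    have h3 : IsOpen {q : ℝ × F | q.1 < 1 ∧ p q.2 ≠ s} := by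
      have h4 : IsOpen {q : ℝ × F | q.1 < 1} := isOpen_lt continuous_fst continuous_const
      have h5 : IsOpen {q : ℝ × F | p q.2 ≠ s} :=
        isOpen_ne_fun (hp.comp continuous_snd) continuous_const
      exact h4.inter h5
    have h6 : {q : ℝ × F | q.1 < 1 ∧ p q.2 ≠ s} ∈ 𝓝 (t0, x0) := h3.mem_nhds ⟨hc.2, hc.1⟩
    filter_upwards [mem_nhdsWithin_of_mem_nhds h6, self_mem_nhdsWithin] with q hq hq'
    exact ⟨⟨hq'.1.1, hq.1⟩, hq'.2, hq.2⟩
  · -- at the fibre over `s`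
    have hys : p (H t0 x0) = s := by
      rw [Hp t0 x0 ht0 hx0]
      by_cases h : p x0 = s
      · rw [h, rad_self]
      · have : t0 = 1 := by
          by_contra hne
          exact hc ⟨h, lt_of_le_of_ne ht0.2 hne⟩
        rw [this, rad_one]
    change Tendsto (fun q : ℝ × F => H q.1 q.2) (𝓝[Icc 0 1 ×ˢ (p ⁻¹' W)] (t0, x0))
      (𝓝 (H t0 x0))
    rw [nhds_eq hp hcl hO hd hys]
    refine tendsto_inf.2 ⟨?_, ?_⟩
    · rw [tendsto_principal]
      by_cases h : p x0 = s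
      · have hy0 : H t0 x0 = x0 := H1 t0 x0 h
        have h1 : {q : ℝ × F | q.2 ∈ O x0 ∧ ‖p q.2 - s‖ < r} ∈ 𝓝 (t0, x0) := by
          have h2 : IsOpen {q : ℝ × F | q.2 ∈ O x0 ∧ ‖p q.2 - s‖ < r} :=
            ((hO x0 h).1.preimage continuous_snd).inter
              (isOpen_lt (f := fun q : ℝ × F => ‖p q.2 - s‖) (by fun_prop) continuous_const)
          exact h2.mem_nhds ⟨(hO x0 h).2, by rw [h, sub_self, norm_zero]; exact hr⟩
        filter_upwards [mem_nhdsWithin_of_mem_nhds h1, self_mem_nhdsWithin] with q hq hq'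
        rw [hy0]
        refine hstay q.2 hq'.2 0 q.1 le_rfl hq'.1.1 hq'.1.2 ?_ x0 h ?_
        · rw [sub_zero, one_mul]; exact hq.2
        · rw [H0 q.2 hq'.2]; exact hq.1
      · have ht1 : t0 = 1 := by
          by_contra hne
          exact hc ⟨h, lt_of_le_of_ne ht0.2 hne⟩
        subst ht1
        set y := H 1 x0 with hy
        -- choose `t1 < 1` such that `H t1 x0 ∈ O y` and `(1 - t1) * ‖p x0 - s‖ < r`
        have h1 : ∀ᶠ t in 𝓝[Ico 0 1] (1 : ℝ), H t x0 ∈ O y := by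
          have h2 : ContinuousWithinAt (fun t => H t x0) (Ico 0 1) 1 :=
            (hHx x0 hx0 1 ⟨zero_le_one, le_rfl⟩).mono Ico_subset_Icc_self
          exact h2 ((hO y hys).1.mem_nhds (hO y hys).2)
        have h3 : ∀ᶠ t in 𝓝[Ico 0 1] (1 : ℝ), (1 - t) * ‖p x0 - s‖ < r := by
          have h4 : Tendsto (fun t : ℝ => (1 - t) * ‖p x0 - s‖) (𝓝 (1 : ℝ))
              (𝓝 ((1 - 1) * ‖p x0 - s‖)) := by
            apply Continuous.tendsto (f := fun t : ℝ => (1 - t) * ‖p x0 - s‖)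
            fun_prop
          rw [sub_self, zero_mul] at h4
          exact nhdsWithin_le_nhds (h4 (Iio_mem_nhds hr))
        have hne : (𝓝[Ico 0 1] (1 : ℝ)).NeBot := by
          rw [← mem_closure_iff_nhdsWithin_neBot, closure_Ico zero_ne_one]
          exact ⟨zero_le_one, le_rfl⟩
        obtain ⟨t1, ⟨h5, h6⟩, h7⟩ := ((h1.and h3).and self_mem_nhdsWithin).exists
        have h7 : t1 ∈ Ico (0 : ℝ) 1 := h7
        -- nearby points
        have h8 : ContinuousWithinAt (fun x => H t1 x) (p ⁻¹' W) x0 := by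
          have h9 : ContinuousWithinAt (fun x => G t1 x) (p ⁻¹' W ∩ {x | p x ≠ s}) x0 := by
            have h10 : ContinuousWithinAt (fun x : F => ((t1, x) : ℝ × F))
                (p ⁻¹' W ∩ {x | p x ≠ s}) x0 := by fun_prop
            exact ContinuousWithinAt.comp (g := fun q : ℝ × F => G q.1 q.2)
              (f := fun x : F => ((t1, x) : ℝ × F)) (hGc (t1, x0) ⟨h7, hx0, h⟩) h10
              (fun x hx => ⟨h7, hx.1, hx.2⟩)
          have h11 : ContinuousWithinAt (fun x => H t1 x) (p ⁻¹' W ∩ {x | p x ≠ s}) x0 :=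
            h9.congr (fun x hx => H2 t1 x hx.2 h7.2) (H2 t1 x0 h h7.2)
          refine h11.mono_of_mem_nhdsWithin ?_
          have h12 : IsOpen {x : F | p x ≠ s} := isOpen_ne_fun hp continuous_const
          exact inter_mem_nhdsWithin _ (h12.mem_nhds h)
        have h13 : ∀ᶠ x in 𝓝[p ⁻¹' W] x0, H t1 x ∈ O y :=
          h8 ((hO y hys).1.mem_nhds h5)
        have h14 : ∀ᶠ x in 𝓝[p ⁻¹' W] x0, (1 - t1) * ‖p x - s‖ < r := by
          have h15 : IsOpen {x : F | (1 - t1) * ‖p x - s‖ < r} :=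
            isOpen_lt (by fun_prop) continuous_const
          exact nhdsWithin_le_nhds (h15.mem_nhds h6)
        have h16 : ∀ᶠ q : ℝ × F in 𝓝[Icc 0 1 ×ˢ (p ⁻¹' W)] ((1 : ℝ), x0),
            H t1 q.2 ∈ O y ∧ (1 - t1) * ‖p q.2 - s‖ < r := by
          rw [nhdsWithin_prod_eq]
          exact (h13.and h14).prod_inr _
        have h17 : ∀ᶠ q : ℝ × F in 𝓝[Icc 0 1 ×ˢ (p ⁻¹' W)] ((1 : ℝ), x0), t1 < q.1 := by
          have h18 : IsOpen {q : ℝ × F | t1 < q.1} := isOpen_lt continuous_const continuous_fst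
          exact nhdsWithin_le_nhds (h18.mem_nhds h7.2)
        filter_upwards [h16, h17, self_mem_nhdsWithin] with q hq hq' hq''
        exact hstay q.2 hq''.2 t1 q.1 h7.1 hq'.le hq''.1.2 hq.2 y hys hq.1
    · rw [tendsto_comap_iff]
      have h1 : Tendsto (fun q : ℝ × F => rad s q.1 (p q.2)) (𝓝[Icc 0 1 ×ˢ (p ⁻¹' W)] (t0, x0))
          (𝓝 s) := by
        have h2' : Continuous (fun q : ℝ × F => ((q.1, p q.2) : ℝ × ℂ)) := by fun_prop
        have h2 : Continuous (fun q : ℝ × F => rad s q.1 (p q.2)) :=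
          (continuous_rad s).comp h2'
        have h3 := h2.tendsto (t0, x0)
        rw [← Hp t0 x0 ht0 hx0, hys] at h3
        exact h3.mono_left nhdsWithin_le_nhds
      refine h1.congr' ?_
      filter_upwards [self_mem_nhdsWithin] with q hq
      exact (Hp q.1 q.2 hq.1 hq.2).symm

end Groth.Agent.An.H26.Star
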