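import Mathlib.Analysis.Convex.Contractible
import Mathlib.Topology.UrysohnsLemma
import Mathlib.Analysis.LocallyConvex.WithSeminorms
import Mathlib.Topology.Homotopy.LocallyContractible
import Mathlib.Topology.Algebra.Module.LocallyConvex
import Groth.Agent.An.H26.Star
import Groth.Agent.An.H897.Core

/-!
# The pieces of a branched covering over star-shaped sets

`Radial p s W` is the lifted radial contraction of `p ⁻¹' W` to the fibre over `s`; its pieces
`D y`, `y` in the fibre, are open and contractible.  Over a convex set `H` with `s` on its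
boundary the pieces are sheets, and they are compressible in the pieces over `W`.
-/

open Set Filter Topology unitInterval

namespace Groth.Agent.An.H26.Cone

open Groth.Agent.An.H26.Star
open Groth.Agent.An.H897.Core (Compressible)

variable {F : Type*} [TopologicalSpace F] {p : F → ℂ}

/-- The lifted radial contraction. -/
structure Radial (p : F → ℂ) (s : ℂ) (W : Set ℂ) where
  /-- the homotopy -/
  H : ℝ → F → F
  cont : ContinuousOn (fun q : ℝ × F => H q.1 q.2) (Icc 0 1 ×ˢ (p ⁻¹' W))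
  zero : ∀ x, p x ∈ W → H 0 x = x
  proj : ∀ t x, t ∈ Icc (0 : ℝ) 1 → p x ∈ W → p (H t x) = rad s t (p x)
  fix : ∀ t x, p x = s → H t x = x

namespace Radial

variable {s : ℂ} {W : Set ℂ} (c : Radial p s W)

/-- The piece at the point `y` of the fibre over `s`. -/
def D (y : F) : Set F := {x | p x ∈ W ∧ c.H 1 x = y}

theorem proj_one {x : F} (hx : p x ∈ W) : p (c.H 1 x) = s := by
  rw [c.proj 1 x ⟨zero_le_one, le_rfl⟩ hx, rad_one]

theorem mem_D_self {x : F} (hx : p x ∈ W) : x ∈ c.D (c.H 1 x) := ⟨hx, rfl⟩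

theorem mem_D_fibre {y : F} (hy : p y = s) (hs : s ∈ W) : y ∈ c.D y :=
  ⟨by rw [hy]; exact hs, c.fix 1 y hy⟩

theorem disjoint_D {y y' : F} (h : y ≠ y') : Disjoint (c.D y) (c.D y') := by
  rw [disjoint_left]
  rintro x ⟨_, hx⟩ ⟨_, hx'⟩
  exact h (hx.symm.trans hx')

theorem cont_t {t : ℝ} (ht : t ∈ Icc (0 : ℝ) 1) : ContinuousOn (c.H t) (p ⁻¹' W) := by
  have h1 : ContinuousOn (fun x : F => ((t, x) : ℝ × F)) (p ⁻¹' W) := by fun_prop
  exact ContinuousOn.comp (g := fun q : ℝ × F => c.H q.1 q.2) c.cont h1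
    (fun x hx => ⟨ht, hx⟩)

theorem cont_x {x : F} (hx : p x ∈ W) : ContinuousOn (fun t => c.H t x) (Icc 0 1) := by
  have h1 : ContinuousOn (fun t : ℝ => ((t, x) : ℝ × F)) (Icc 0 1) := by fun_prop
  exact ContinuousOn.comp (g := fun q : ℝ × F => c.H q.1 q.2) c.cont h1
    (fun t ht => ⟨ht, hx⟩)

variable [T2Space F]

theorem isOpen_D (hp : Continuous p) (hfin : (p ⁻¹' {s}).Finite) (hW : IsOpen W) {y : F} :
    IsOpen (c.D y) := by
  by_cases hy : p y = s
  swap
  · have : c.D y = ∅ := by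
      ext x
      simp only [D, mem_ofPred_eq, mem_empty_iff_false, iff_false, not_and]
      intro hx h
      exact hy (h ▸ c.proj_one hx)
    rw [this]
    exact isOpen_empty
  · obtain ⟨O, hO, hd⟩ := exists_sep hfin
    have h1 : c.D y = p ⁻¹' W ∩ c.H 1 ⁻¹' (O y) := by
      ext x
      constructor
      · rintro ⟨hx, h⟩
        exact ⟨hx, by rw [mem_preimage, h]; exact (hO y hy).2⟩
      · rintro ⟨hx, h⟩
        refine ⟨hx, ?_⟩
        by_contra hne
        exact disjoint_left.1 (hd _ _ (c.proj_one hx) hy hne) (hO _ (c.proj_one hx)).2 h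
    rw [h1]
    exact (c.cont_t ⟨zero_le_one, le_rfl⟩).isOpen_inter_preimage (hW.preimage hp) (hO y hy).1

/-- Connected sets over `W` lie in one piece. -/
theorem mem_D_of_isPreconnected (hp : Continuous p) (hfin : (p ⁻¹' {s}).Finite) (hW : IsOpen W)
    {X : Type*} [TopologicalSpace X] {C : Set X} (hC : IsPreconnected C) {f : X → F}
    (hf : ContinuousOn f C) (hfW : ∀ u ∈ C, p (f u) ∈ W) {u v : X} (hu : u ∈ C) (hv : v ∈ C)
    {y : F} (h : f u ∈ c.D y) : f v ∈ c.D y := by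
  have h1 : IsPreconnected (f '' C) := hC.image f hf
  have h2 : f '' C ⊆ c.D y ∪ ⋃ (y' : F) (_ : y' ≠ y), c.D y' := by
    rintro _ ⟨d, hdC, rfl⟩
    by_cases h5 : c.H 1 (f d) = y
    · left; exact ⟨hfW d hdC, h5⟩
    · right; exact mem_iUnion₂.2 ⟨_, h5, c.mem_D_self (hfW d hdC)⟩
  have h6 : Disjoint (c.D y) (⋃ (y' : F) (_ : y' ≠ y), c.D y') := by
    rw [disjoint_iUnion_right]
    intro y'
    rw [disjoint_iUnion_right]
    intro h
    exact c.disjoint_D h.symm
  exact h1.subset_left_of_subset_union (c.isOpen_D hp hfin hW)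
    (isOpen_iUnion fun y' => isOpen_iUnion fun h => (c.isOpen_D hp hfin hW)) h6 h2
    ⟨f u, mem_image_of_mem f hu, h⟩ (mem_image_of_mem f hv)

theorem H_mem_D (hp : Continuous p) (hfin : (p ⁻¹' {s}).Finite) (hW : IsOpen W)
    (hWs : StarConvex ℝ s W) {x y : F} (hx : x ∈ c.D y) {t : ℝ} (ht : t ∈ Icc (0 : ℝ) 1) :
    c.H t x ∈ c.D y := by
  refine c.mem_D_of_isPreconnected hp hfin hW isPreconnected_Icc (c.cont_x hx.1) ?_
    (u := (0 : ℝ)) ⟨le_rfl, zero_le_one⟩ ht ?_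
  · intro u hu
    rw [c.proj u x hu hx.1]
    exact rad_mem hWs hx.1 hu
  · rw [c.zero x hx.1]
    exact hx

theorem contractible_D (hp : Continuous p) (hfin : (p ⁻¹' {s}).Finite) (hW : IsOpen W)
    (hWs : StarConvex ℝ s W) (hs : s ∈ W) {y : F} (hy : p y = s) :
    ContractibleSpace (c.D y) := by
  rw [contractible_iff_id_nullhomotopic]
  refine ⟨⟨y, c.mem_D_fibre hy hs⟩, ⟨⟨⟨fun q => ⟨c.H q.1 q.2, c.H_mem_D hp hfin hW hWs q.2.2
    q.1.2⟩, ?_⟩, ?_, ?_⟩⟩⟩
  · refine Continuous.subtype_mk ?_ _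
    have h1 : Continuous (fun q : I × c.D y => (((q.1 : ℝ), (q.2 : F)) : ℝ × F)) := by fun_prop
    exact c.cont.comp_continuous h1 (fun q => ⟨q.1.2, q.2.2.1⟩)
  · intro x
    apply Subtype.ext
    exact c.zero x x.2.1
  · intro x
    apply Subtype.ext
    exact x.2.2

/-- Neighbourhoods of the points of the central fibre. -/
theorem nhds_D (hp : Continuous p) (hcl : IsClosedMap p) (hfin : (p ⁻¹' {s}).Finite)
    (hW : IsOpen W) (hs : s ∈ W) {y : F} (hy : p y = s) :
    𝓝 y = 𝓟 (c.D y) ⊓ comap p (𝓝 s) :=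
  nhds_eq hp hcl (O := c.D) (fun _ hy' => ⟨c.isOpen_D hp hfin hW, c.mem_D_fibre hy' hs⟩)
    (fun _ _ _ _ hne => c.disjoint_D hne) hy

end Radial

theorem exists_cone [T2Space F] (hp : Continuous p) (hcl : IsClosedMap p) {S : Set ℂ}
    (hcov : IsCoveringMapOn p Sᶜ) {s : ℂ} (hfin : (p ⁻¹' {s}).Finite) {W : Set ℂ}
    (hW : StarConvex ℝ s W) (hWS : W \ {s} ⊆ Sᶜ) : Nonempty (Radial p s W) := by
  obtain ⟨H, h1, h2, h3, h4⟩ := exists_star hp hcl hcov hfin hW hWS
  exact ⟨⟨H, h1, h2, h3, h4⟩⟩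

/-- Uniqueness of lifts. -/
theorem lift_unique {S : Set ℂ} (hcov : IsCoveringMapOn p Sᶜ) {X : Type*} [TopologicalSpace X]
    {C : Set X} (hC : IsPreconnected C) {f g : X → F} (hf : ContinuousOn f C)
    (hg : ContinuousOn g C) (hfg : ∀ u ∈ C, p (f u) = p (g u)) (hS : ∀ u ∈ C, p (f u) ∈ Sᶜ)
    {u : X} (hu : u ∈ C) (h : f u = g u) : ∀ v ∈ C, f v = g v := by
  have cov : IsCoveringMap (Sᶜ.restrictPreimage p) := hcov.isCoveringMap_restrictPreimage
  have hS' : ∀ u ∈ C, p (g u) ∈ Sᶜ := fun u hu => hfg u hu ▸ hS u hu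
  have : PreconnectedSpace C := isPreconnected_iff_preconnectedSpace.1 hC
  let f' : C → p ⁻¹' (Sᶜ : Set ℂ) := fun u => ⟨f u, hS u u.2⟩
  let g' : C → p ⁻¹' (Sᶜ : Set ℂ) := fun u => ⟨g u, hS' u u.2⟩
  have hf' : Continuous f' := Continuous.subtype_mk
    (continuousOn_iff_continuous_domRestrict.1 hf) _
  have hg' : Continuous g' := Continuous.subtype_mk
    (continuousOn_iff_continuous_domRestrict.1 hg) _
  have h1 : f' = g' := by
    refine cov.eq_of_comp_eq hf' hg' ?_ ⟨u, hu⟩ (Subtype.ext h)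
    funext v
    apply Subtype.ext
    exact hfg v v.2
  intro v hv
  exact congrArg Subtype.val (congrFun h1 ⟨v, hv⟩)

/-- Sections over convex sets. -/
theorem exists_section {S : Set ℂ} (hcov : IsCoveringMapOn p Sᶜ) {Q : Set ℂ} (hQ : Convex ℝ Q)
    (hQS : Q ⊆ Sᶜ) {h : ℂ} (hh : h ∈ Q) {y : F} (hy : p y = h) :
    ∃ sec : ℂ → F, ContinuousOn sec Q ∧ (∀ z ∈ Q, p (sec z) = z) ∧ sec h = y := by
  classical
  have : ContractibleSpace Q := hQ.contractibleSpace ⟨h, hh⟩
  have : LocallyPathConnectedSpace Q := hQ.locallyPathConnectedSpace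
  obtain ⟨g, ⟨hg1, hg2⟩, -⟩ := IsCoveringMapOn.existsUnique_continuousMap_lifts hcov
    (A := Q) ⟨Subtype.val, continuous_subtype_val⟩ (a₀ := ⟨h, hh⟩) (e₀ := y) hy
    (fun a => hQS a.2)
  refine ⟨fun z => if hz : z ∈ Q then g ⟨z, hz⟩ else y, ?_, ?_, ?_⟩
  · rw [continuousOn_iff_continuous_domRestrict]
    refine g.continuous.congr fun z => ?_
    rw [Set.domRestrict_apply, dif_pos z.2]
  · intro z hz
    simp only [dif_pos hz]
    exact congrFun hg2 ⟨z, hz⟩
  · simp only [dif_pos hh]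
    exact hg1

end Groth.Agent.An.H26.Cone
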