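import Groth.Agent.An.H26.Strips

/-!
# A branched covering of the plane satisfies the hypotheses of Lemma Q
-/

open Set Filter Topology unitInterval

universe u

namespace Groth.Agent.An.H26.Data

open Groth.Agent.An.H26.Star
open Groth.Agent.An.H26.Cone
open Groth.Agent.An.H26.Compress
open Groth.Agent.An.H26.Strips
open Groth.Agent.An.H897.Core (Compressible Side)
open Groth.Agent.An.H897.PiN (Pieces)

variable {F : Type u} [TopologicalSpace F]

/-- Union of the strips with index in `P`. -/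
def Un (p : F → ℂ) (s : ℕ → ℂ) (k : ℕ) (P : ℕ → Prop) : Set F :=
  {x | ∃ j, j < k ∧ P j ∧ p x ∈ W s k j}

variable {p : F → ℂ} {s : ℕ → ℂ} {k : ℕ} {P : ℕ → Prop}

theorem isOpen_Un (hp : Continuous p) : IsOpen (Un p s k P) := by
  have h : Un p s k P = ⋃ (j : ℕ) (_ : j < k ∧ P j), p ⁻¹' (W s k j) := by
    ext x
    simp only [Un, mem_ofPred_eq, mem_iUnion, mem_preimage, exists_prop, and_assoc]
  rw [h]
  exact isOpen_iUnion fun j => isOpen_iUnion fun _ => (isOpen_W j).preimage hp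

/-- A class of indices without neighbours. -/
def Sparse (P : ℕ → Prop) : Prop := ∀ j, P j → ¬ P (j + 1)

theorem Sparse.eq (hP : Sparse P) {z : ℂ} {j j' : ℕ} (hj : j < k) (hj' : j' < k) (hPj : P j)
    (hPj' : P j') (hz : z ∈ W s k j) (hz' : z ∈ W s k j') : j = j' := by
  by_contra hne
  rcases Nat.lt_or_gt_of_ne hne with h | h
  · have := W_adj hj' h hz hz'
    rw [this] at hPj'
    exact hP j hPj hPj'
  · have := W_adj hj h hz' hz
    rw [this] at hPj
    exact hP j' hPj' hPj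

variable [T2Space F]

theorem isOpen_diff (hp : Continuous p) (hfin : ∀ z, (p ⁻¹' {z}).Finite) (hP : Sparse P)
    {m : ℕ} (hm : m < k) (hPm : P m) (c : Radial p (s m) (W s k m)) (y : F) :
    IsOpen (Un p s k P \ c.D y) := by
  have h : Un p s k P \ c.D y = (⋃ (j : ℕ) (_ : (j < k ∧ P j) ∧ j ≠ m), p ⁻¹' (W s k j)) ∪
      ⋃ (y' : F) (_ : y' ≠ y), c.D y' := by
    ext x
    constructor
    · rintro ⟨⟨j, hj, hPj, hx⟩, hxD⟩
      by_cases hjm : j = m
      · right
        subst hjm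
        exact mem_iUnion₂.2 ⟨c.H 1 x, fun h => hxD ⟨hx, h⟩, c.mem_D_self hx⟩
      · left
        exact mem_iUnion₂.2 ⟨j, ⟨⟨hj, hPj⟩, hjm⟩, hx⟩
    · rintro (hx | hx)
      · obtain ⟨j, ⟨⟨hj, hPj⟩, hjm⟩, hxj⟩ := mem_iUnion₂.1 hx
        refine ⟨⟨j, hj, hPj, hxj⟩, fun hxD => ?_⟩
        exact hjm (hP.eq hj hm hPj hPm hxj hxD.1)
      · obtain ⟨y', hy', hxy⟩ := mem_iUnion₂.1 hx
        exact ⟨⟨m, hm, hPm, hxy.1⟩, fun hxD => disjoint_left.1 (c.disjoint_D hy') hxy hxD⟩
  rw [h]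
  exact (isOpen_iUnion fun j => isOpen_iUnion fun _ => (isOpen_W j).preimage hp).union
    (isOpen_iUnion fun y' => isOpen_iUnion fun _ => c.isOpen_D hp (hfin _) (isOpen_W m))

theorem pieces_Un (hp : Continuous p) (hfin : ∀ z, (p ⁻¹' {z}).Finite)
    (hs : ∀ i j, i < j → j < k → (s i).re < (s j).re) (hP : Sparse P)
    (c : ∀ j, j < k → Radial p (s j) (W s k j)) : Pieces (Un p s k P) := by
  rintro x ⟨j, hj, hPj, hx⟩
  refine ⟨(c j hj).D ((c j hj).H 1 x), fun z hz => ⟨j, hj, hPj, hz.1⟩, (c j hj).mem_D_self hx,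
    (c j hj).isOpen_D hp (hfin _) (isOpen_W j), isOpen_diff hp hfin hP hj hPj (c j hj) _, ?_⟩
  exact (c j hj).contractible_D hp (hfin _) (isOpen_W j) (convex_W j (mem_W_self hs hj))
    (mem_W_self hs hj) ((c j hj).proj_one hx)

/-- The label of a point of the overlap. -/
noncomputable def lab (p : F → ℂ) (s : ℕ → ℂ) (k : ℕ)
    (K : ∀ j, j + 1 < k → Radial p (ctr s j) (Q s k j)) (x : F) :
    Option {y : F // ∃ j, j + 1 < k ∧ p y = ctr s j} :=
  open Classical in
  if h : ∃ j, ∃ _ : j + 1 < k, p x ∈ Q s k j then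
    some ⟨(K h.choose h.choose_spec.choose).H 1 x, h.choose, h.choose_spec.choose,
      (K h.choose h.choose_spec.choose).proj_one h.choose_spec.choose_spec⟩
  else none

omit [T2Space F] in
theorem lab_eq (K : ∀ j, j + 1 < k → Radial p (ctr s j) (Q s k j)) {x : F} {j : ℕ}
    (hj : j + 1 < k) (hx : p x ∈ Q s k j) :
    lab p s k K x = some ⟨(K j hj).H 1 x, j, hj, (K j hj).proj_one hx⟩ := by
  have h : ∃ j, ∃ _ : j + 1 < k, p x ∈ Q s k j := ⟨j, hj, hx⟩
  have h1 : lab p s k K x = some ⟨(K h.choose h.choose_spec.choose).H 1 x, h.choose,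
      h.choose_spec.choose,
      (K h.choose h.choose_spec.choose).proj_one h.choose_spec.choose_spec⟩ := by
    unfold lab
    rw [dif_pos h]
  have h2 : h.choose = j := Q_disj h.choose_spec.choose hj h.choose_spec.choose_spec hx
  have key : ∀ j' (hj' : j' + 1 < k), j' = j → (K j' hj').H 1 x = (K j hj).H 1 x := by
    rintro _ _ rfl
    rfl
  rw [h1]
  congr 1
  apply Subtype.ext
  exact key _ _ h2

omit [T2Space F] in
omit [TopologicalSpace F] in
theorem mem_overlap {x : F} : x ∈ Un p s k Even ∩ Un p s k Odd ↔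
    ∃ j, ∃ _ : j + 1 < k, p x ∈ Q s k j := by
  constructor
  · rintro ⟨⟨j, hj, hPj, hx⟩, ⟨j', hj', hPj', hx'⟩⟩
    rcases lt_trichotomy j j' with h | h | h
    · have h1 := W_adj hj' h hx hx'
      subst h1
      exact ⟨j, hj', hx, hx'⟩
    · exact absurd (h ▸ hPj) (Nat.not_even_iff_odd.2 hPj')
    · have h1 := W_adj hj h hx' hx
      subst h1
      exact ⟨j', hj, hx', hx⟩
  · rintro ⟨j, hj, hx⟩
    rcases Nat.even_or_odd j with h | h
    · exact ⟨⟨j, Nat.lt_of_succ_lt hj, h, hx.1⟩, ⟨j + 1, hj, h.add_one, hx.2⟩⟩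
    · exact ⟨⟨j + 1, hj, h.add_one, hx.2⟩, ⟨j, Nat.lt_of_succ_lt hj, h, hx.1⟩⟩

omit [T2Space F] in
theorem fibre_lab (hs : ∀ i j, i < j → j < k → (s i).re < (s j).re)
    (K : ∀ j, j + 1 < k → Radial p (ctr s j) (Q s k j)) {E : Set F}
    (hE : ∀ x, x ∈ E ↔ ∃ j, ∃ _ : j + 1 < k, p x ∈ Q s k j) {j : ℕ} (hj : j + 1 < k) {y : F}
    (hy : p y = ctr s j) :
    {x | x ∈ E ∧ lab p s k K x = some ⟨y, j, hj, hy⟩} = (K j hj).D y := by
  ext x
  simp only [mem_ofPred_eq, hE]
  constructor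
  · rintro ⟨⟨j', hj', hx⟩, h⟩
    rw [lab_eq K hj' hx, Option.some.injEq, Subtype.mk.injEq] at h
    have h1 : p y = ctr s j' := by rw [← h]; exact (K j' hj').proj_one hx
    have h2 : j' = j := by
      refine Q_disj (s := s) hj' hj (ctr_mem hs hj') ?_
      rw [← h1, hy]
      exact ctr_mem hs hj
    subst h2
    exact ⟨hx, h⟩
  · rintro ⟨hx, h⟩
    refine ⟨⟨j, hj, hx⟩, ?_⟩
    rw [lab_eq K hj hx]
    congr 1
    exact Subtype.ext h

theorem side (hp : Continuous p) (hcl : IsClosedMap p) {S : Set ℂ}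
    (hcov : IsCoveringMapOn p Sᶜ) (hfin : ∀ z, (p ⁻¹' {z}).Finite)
    (hS : ∀ z ∈ S, ∃ i, i < k ∧ s i = z)
    (hs : ∀ i j, i < j → j < k → (s i).re < (s j).re) (hP : Sparse P)
    (hP' : ∀ j, P j ∨ P (j + 1))
    (c : ∀ j, j < k → Radial p (s j) (W s k j))
    (K : ∀ j, j + 1 < k → Radial p (ctr s j) (Q s k j)) {E : Set F}
    (hE : ∀ x, x ∈ E ↔ ∃ j, ∃ _ : j + 1 < k, p x ∈ Q s k j) :
    Side (Un p s k P) E (lab p s k K) := by
  intro i
  match i with
  | none =>
    refine ⟨∅, isOpen_empty, ?_, empty_subset _, ?_, ?_⟩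
    · rw [sdiff_empty]
      exact isOpen_Un hp
    · intro x hx h
      obtain ⟨j, hj, hxj⟩ := (hE x).1 hx
      rw [lab_eq K hj hxj] at h
      exact absurd h (by simp)
    · intro T _ _ _ C hC a ha haC
      have : IsEmpty T := ⟨fun t => ha t⟩
      refine ⟨⟨fun q => isEmptyElim q.2, ?_⟩, fun t => isEmptyElim t, fun _ t => isEmptyElim t,
        fun _ t => isEmptyElim t, fun t => isEmptyElim t⟩
      exact continuous_iff_continuousAt.2 fun q => isEmptyElim q.2
  | some ⟨y, j, hj, hy⟩ =>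
    obtain ⟨m, hm, hPm⟩ : ∃ m, (m = j ∨ m = j + 1) ∧ P m := by
      rcases hP' j with h | h
      · exact ⟨j, Or.inl rfl, h⟩
      · exact ⟨j + 1, Or.inr rfl, h⟩
    have hmk : m < k := by rcases hm with rfl | rfl <;> omega
    have hQW : Q s k j ⊆ W s k m := by
      rcases hm with rfl | rfl
      · exact inter_subset_left
      · exact inter_subset_right
    have key := compressible_sheet hp hcl hcov hfin (c m hmk) (isOpen_W m)
      (convex_W m (mem_W_self hs hmk)) (mem_W_self hs hmk) (K j hj)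
      ((isOpen_W j).inter (isOpen_W (j + 1))) ((convex_W j).inter (convex_W (j + 1)))
      (ctr_mem hs hj) (Q_sub hs hS hj) hQW (not_mem_Q hs hj hm)
      (fun z hz t ht => Q_rad hs hj hm hz ht) hy
    refine ⟨(c m hmk).D ((c m hmk).H 1 y), (c m hmk).isOpen_D hp (hfin _) (isOpen_W m),
      isOpen_diff hp hfin hP hmk hPm (c m hmk) _, fun z hz => ⟨m, hmk, hPm, hz.1⟩, ?_, ?_⟩
    · intro x hx h
      apply key.1
      rw [← fibre_lab hs K hE hj hy]
      exact ⟨hx, h⟩
    · rw [fibre_lab hs K hE hj hy]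
      exact key.2

theorem lab_loc (hp : Continuous p) (hfin : ∀ z, (p ⁻¹' {z}).Finite)
    (K : ∀ j, j + 1 < k → Radial p (ctr s j) (Q s k j)) {x : F} {j : ℕ} (hj : j + 1 < k)
    (hx : p x ∈ Q s k j) : ∀ᶠ z in 𝓝 x, lab p s k K z = lab p s k K x := by
  have h1 : (K j hj).D ((K j hj).H 1 x) ∈ 𝓝 x :=
    ((K j hj).isOpen_D hp (hfin _) ((isOpen_W j).inter (isOpen_W (j + 1)))).mem_nhds
      ((K j hj).mem_D_self hx)
  filter_upwards [h1] with z hz
  rw [lab_eq K hj hz.1, lab_eq K hj hx]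
  congr 1
  exact Subtype.ext hz.2

theorem isPreconnected_lab (hp : Continuous p) (hfin : ∀ z, (p ⁻¹' {z}).Finite)
    (hs : ∀ i j, i < j → j < k → (s i).re < (s j).re)
    (K : ∀ j, j + 1 < k → Radial p (ctr s j) (Q s k j)) {E : Set F}
    (hE : ∀ x, x ∈ E ↔ ∃ j, ∃ _ : j + 1 < k, p x ∈ Q s k j)
    (i : Option {y : F // ∃ j, j + 1 < k ∧ p y = ctr s j}) :
    IsPreconnected {x | x ∈ E ∧ lab p s k K x = i} := by
  match i with
  | none =>
    have h : {x | x ∈ E ∧ lab p s k K x = none} = ∅ := by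
      ext x
      simp only [mem_ofPred_eq, mem_empty_iff_false, iff_false, not_and]
      intro hx h
      obtain ⟨j, hj, hxj⟩ := (hE x).1 hx
      rw [lab_eq K hj hxj] at h
      exact absurd h (by simp)
    rw [h]
    exact isPreconnected_empty
  | some ⟨y, j, hj, hy⟩ =>
    rw [fibre_lab hs K hE hj hy]
    have h1 : ContractibleSpace ((K j hj).D y) :=
      (K j hj).contractible_D hp (hfin _) ((isOpen_W j).inter (isOpen_W (j + 1)))
        (((convex_W j).inter (convex_W (j + 1))) (ctr_mem hs hj)) (ctr_mem hs hj) hy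
    exact (isPathConnected_iff_pathConnectedSpace.2 inferInstance).isConnected.isPreconnected

/-- **The input of Lemma Q** for a branched covering of the plane whose branch points have distinct
real parts. -/
theorem exists_data (hp : Continuous p) (hcl : IsClosedMap p) {S : Set ℂ}
    (hcov : IsCoveringMapOn p Sᶜ) (hfin : ∀ z, (p ⁻¹' {z}).Finite)
    (hS : ∀ z ∈ S, ∃ i, i < k ∧ s i = z)
    (hs : ∀ i j, i < j → j < k → (s i).re < (s j).re) (hk : 0 < k) :
    ∃ (U V : Set F) (ι : Type u) (c : F → ι), Finite ι ∧ IsOpen U ∧ IsOpen V ∧ U ∪ V = univ ∧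
      (∀ x ∈ U ∩ V, ∀ᶠ y in 𝓝 x, c y = c x) ∧ Side U (U ∩ V) c ∧ Side V (U ∩ V) c ∧
      Pieces U ∧ Pieces V ∧ ∀ i, IsPreconnected {x | x ∈ U ∩ V ∧ c x = i} := by
  have hc : ∀ j, j < k → Nonempty (Radial p (s j) (W s k j)) := fun j hj =>
    exists_cone hp hcl hcov (hfin _) (convex_W j (mem_W_self hs hj)) (W_diff hS j)
  have hK : ∀ j, j + 1 < k → Nonempty (Radial p (ctr s j) (Q s k j)) := fun j hj =>
    exists_cone hp hcl hcov (hfin _) (((convex_W j).inter (convex_W (j + 1))) (ctr_mem hs hj))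
      (sdiff_subset.trans (Q_sub hs hS hj))
  let c : ∀ j, j < k → Radial p (s j) (W s k j) := fun j hj => (hc j hj).some
  let K : ∀ j, j + 1 < k → Radial p (ctr s j) (Q s k j) := fun j hj => (hK j hj).some
  have e1 : Sparse Even := fun j h => by
    rw [Nat.not_even_iff_odd]; exact h.add_one
  have e2 : Sparse Odd := fun j h => by
    rw [Nat.not_odd_iff_even]; exact h.add_one
  have e3 : ∀ j, Even j ∨ Even (j + 1) := fun j => by
    rcases Nat.even_or_odd j with h | h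
    · exact Or.inl h
    · exact Or.inr h.add_one
  have e4 : ∀ j, Odd j ∨ Odd (j + 1) := fun j => by
    rcases Nat.even_or_odd j with h | h
    · exact Or.inr h.add_one
    · exact Or.inl h
  refine ⟨Un p s k Even, Un p s k Odd, _, lab p s k K, ?_, isOpen_Un hp,
    isOpen_Un hp, ?_, ?_, ?_, ?_, ?_, ?_,
    isPreconnected_lab hp hfin hs K (fun x => mem_overlap)⟩
  · have h1 : {y : F | ∃ j, j + 1 < k ∧ p y = ctr s j}.Finite := by
      refine ((Set.finite_lt_nat k).biUnion (fun j _ => hfin (ctr s j))).subset ?_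
      rintro y ⟨j, hj, hy⟩
      exact mem_biUnion (show j ∈ {i | i < k} from Nat.lt_of_succ_lt hj) hy
    have h2 : Finite {y : F // ∃ j, j + 1 < k ∧ p y = ctr s j} := h1
    infer_instance
  · rw [eq_univ_iff_forall]
    intro x
    obtain ⟨j, hj, hx⟩ := W_cover hs hk (p x)
    rcases Nat.even_or_odd j with h | h
    · exact Or.inl ⟨j, hj, h, hx⟩
    · exact Or.inr ⟨j, hj, h, hx⟩
  · intro x hx
    obtain ⟨j, hj, hxj⟩ := mem_overlap.1 hx
    exact lab_loc hp hfin K hj hxj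
  · exact side hp hcl hcov hfin hS hs e1 e3 c K (fun x => mem_overlap)
  · exact side hp hcl hcov hfin hS hs e2 e4 c K (fun x => mem_overlap)
  · exact pieces_Un hp hfin hs e1 c
  · exact pieces_Un hp hfin hs e2 c

end Groth.Agent.An.H26.Data
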