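import Groth.Agent.An.H26.Input
import Groth.Agent.An.H897.Main

/-!
# Homotopy groups of a branched covering of the plane
-/

open Set Topology

namespace Groth.Agent.An.H26.HigherPi

variable {F : Type*} [TopologicalSpace F] [T2Space F] {p : F → ℂ} (hp : Continuous p)
  (hcl : IsClosedMap p) (hfin : ∀ z, (p ⁻¹' {z}).Finite) (S : Finset ℂ)
  (hcov : IsCoveringMapOn p (S : Set ℂ)ᶜ)

include hp hcl hfin hcov

/-- A Hausdorff space with a continuous closed map with finite fibres to the plane, which is a
covering outside a finite set, has `π_n = 0` for `n ≥ 2`. -/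
theorem subsingleton_homotopyGroup {n : ℕ} (hn : 2 ≤ n) (x : F) :
    Subsingleton (HomotopyGroup (Fin n) F x) := by
  obtain ⟨U, V, ι, c, -, hU, hV, hUV, hc, sU, sV, pU, pV, -⟩ :=
    Input.exists_data hp hcl hfin S hcov
  exact Groth.Agent.An.H897.PiN.subsingleton_homotopyGroup hU hV hUV hc sU sV pU pV hn x

/-- The fundamental group is free. -/
theorem isFreeGroup (x : F) : IsFreeGroup (FundamentalGroup F x) := by
  obtain ⟨U, V, ι, c, -, hU, hV, hUV, hc, sU, sV, pU, pV, -⟩ :=
    Input.exists_data hp hcl hfin S hcov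
  exact Groth.Agent.An.H897.Pi1.isFreeGroup hU hV hUV hc sU sV pU pV x

/-- The fundamental group is finitely generated. -/
theorem fundamentalGroup_fg [ConnectedSpace F] (x : F) : Group.FG (FundamentalGroup F x) := by
  obtain ⟨U, V, ι, c, hι, hU, hV, hUV, hc, sU, sV, pU, pV, hE⟩ :=
    Input.exists_data hp hcl hfin S hcov
  exact Groth.Agent.An.H897.Main.fundamentalGroup_fg hU hV hUV hc sU sV pU pV hE x

/-- A connected such space is path connected. -/
theorem pathConnectedSpace [ConnectedSpace F] : PathConnectedSpace F := by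
  obtain ⟨U, V, ι, c, hι, hU, hV, hUV, hc, sU, sV, pU, pV, hE⟩ :=
    Input.exists_data hp hcl hfin S hcov
  exact Groth.Agent.An.H897.Main.pathConnectedSpace_of_pieces hUV pU pV

end Groth.Agent.An.H26.HigherPi
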