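import Groth.Agent.An.H26.Data

/-!
# Input of Lemma Q for an arbitrary finite branched covering of the plane
-/

open Set Filter Topology unitInterval

universe u

namespace Groth.Agent.An.H26.Input

open Groth.Agent.An.H897.Core (Compressible Side)
open Groth.Agent.An.H897.PiN (Pieces)

/-- A rotation making the real parts of finitely many points distinct. -/
theorem exists_rot (S : Finset ℂ) : ∃ w : ℂ, w ≠ 0 ∧
    ∀ a ∈ S, ∀ b ∈ S, (w * a).re = (w * b).re → a = b := by
  classical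
  have h1 : (⋃ ab ∈ (S ×ˢ S : Finset (ℂ × ℂ)),
      {t : ℝ | ab.1 ≠ ab.2 ∧ (ab.1 - ab.2).re = t * (ab.1 - ab.2).im}).Finite := by
    refine Set.Finite.biUnion (S ×ˢ S).finite_toSet ?_
    rintro ⟨a, b⟩ -
    refine Set.Subsingleton.finite ?_
    rintro t ⟨hne, ht⟩ t' ⟨-, ht'⟩
    simp only at hne ht ht'
    by_cases him : (a - b).im = 0
    · exfalso
      rw [him, mul_zero] at ht
      exact hne (sub_eq_zero.1 (Complex.ext ht him))
    · have := ht.symm.trans ht'
      exact mul_right_cancel₀ him this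
  obtain ⟨t, ht⟩ := h1.exists_notMem
  refine ⟨1 + t * Complex.I, ?_, ?_⟩
  · intro h
    have := congrArg Complex.re h
    simp at this
  · intro a ha b hb h
    by_contra hne
    apply ht
    refine mem_iUnion₂.2 ⟨(a, b), Finset.mem_product.2 ⟨ha, hb⟩, hne, ?_⟩
    simp only [Complex.sub_re, Complex.sub_im]
    simp at h
    linarith

/-- Sorting finitely many points with distinct real parts. -/
theorem exists_sort (S : Finset ℂ) (hS : ∀ a ∈ S, ∀ b ∈ S, a.re = b.re → a = b) :
    ∃ s : ℕ → ℂ, (∀ z ∈ (S : Set ℂ), ∃ i, i < (S.image Complex.re).card ∧ s i = z) ∧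
      (∀ i j, i < j → j < (S.image Complex.re).card → (s i).re < (s j).re) := by
  classical
  set T := S.image Complex.re with hT
  set e := T.orderEmbOfFin rfl with he
  have h1 : ∀ i : Fin T.card, ∃ z ∈ S, z.re = e i := by
    intro i
    exact Finset.mem_image.1 (T.orderEmbOfFin_mem rfl i)
  choose g hgS hgr using h1
  refine ⟨fun i => if h : i < T.card then g ⟨i, h⟩ else 0, ?_, ?_⟩
  · intro z hz
    have h2 : z.re ∈ (T : Set ℝ) := by
      rw [hT]
      exact Finset.mem_coe.2 (Finset.mem_image_of_mem _ hz)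
    rw [← T.range_orderEmbOfFin rfl] at h2
    obtain ⟨i, hi⟩ := h2
    refine ⟨i, i.2, ?_⟩
    simp only [dif_pos i.2]
    exact hS _ (hgS i) _ hz ((hgr i).trans hi)
  · intro i j hij hj
    simp only [dif_pos hj, dif_pos (hij.trans hj)]
    rw [hgr, hgr]
    exact e.strictMono hij

variable {F : Type u} [TopologicalSpace F] {p : F → ℂ}

/-- **The input of Lemma Q** for a branched covering of the plane. -/
theorem exists_data [T2Space F] (hp : Continuous p) (hcl : IsClosedMap p)
    (hfin : ∀ z, (p ⁻¹' {z}).Finite) (S : Finset ℂ) (hcov : IsCoveringMapOn p (S : Set ℂ)ᶜ) :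
    ∃ (U V : Set F) (ι : Type u) (c : F → ι), Finite ι ∧ IsOpen U ∧ IsOpen V ∧ U ∪ V = univ ∧
      (∀ x ∈ U ∩ V, ∀ᶠ y in 𝓝 x, c y = c x) ∧ Side U (U ∩ V) c ∧ Side V (U ∩ V) c ∧
      Pieces U ∧ Pieces V ∧ ∀ i, IsPreconnected {x | x ∈ U ∩ V ∧ c x = i} := by
  classical
  set S₁ : Finset ℂ := insert 0 S with hS₁
  obtain ⟨w, hw, hrot⟩ := exists_rot S₁
  let e : ℂ ≃ₜ ℂ := Homeomorph.mulLeft₀ w hw
  set S₂ : Finset ℂ := S₁.image (fun z => w * z) with hS₂
  obtain ⟨s, hs1, hs2⟩ := exists_sort S₂ (by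
    intro a ha b hb hab
    obtain ⟨a', ha', rfl⟩ := Finset.mem_image.1 ha
    obtain ⟨b', hb', rfl⟩ := Finset.mem_image.1 hb
    rw [hrot a' ha' b' hb' hab])
  have hcov₁ : IsCoveringMapOn (e ∘ p) (e.symm ⁻¹' (S₁ : Set ℂ)ᶜ) := by
    refine (hcov.mono ?_).homeomorph_comp e
    rw [compl_subset_compl, hS₁, Finset.coe_insert]
    exact subset_insert _ _
  have hS : e.symm ⁻¹' (S₁ : Set ℂ)ᶜ = (S₂ : Set ℂ)ᶜ := by
    rw [preimage_compl, hS₂, Finset.coe_image]
    congr 1
    exact (e.image_eq_preimage_symm (S₁ : Set ℂ)).symm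
  rw [hS] at hcov₁
  refine Data.exists_data (p := e ∘ p) (s := s) (k := (S₂.image Complex.re).card)
    (e.continuous.comp hp) (e.isClosedMap.comp hcl) hcov₁ ?_ hs1 hs2 ?_
  · intro z
    rw [preimage_comp]
    have : e ⁻¹' {z} = {e.symm z} := by
      ext v
      simp only [mem_preimage, mem_singleton_iff]
      exact e.toEquiv.eq_symm_apply.symm
    rw [this]
    exact hfin _
  · rw [Finset.card_pos]
    refine Finset.Nonempty.image (Finset.Nonempty.image ?_ _) _
    exact ⟨0, Finset.mem_insert_self _ _⟩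

end Groth.Agent.An.H26.Input
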