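import Mathlib.Data.Finset.Sort
import Mathlib.Analysis.Complex.Convex
import Mathlib.Topology.Algebra.GroupWithZero
import Groth.Agent.An.H26.Compress
import Groth.Agent.An.H897.PiN

/-!
# Strips: a branched covering of the plane as input of Lemma Q
-/

open Set Filter Topology unitInterval

namespace Groth.Agent.An.H26.Strips

open Groth.Agent.An.H26.Star
open Groth.Agent.An.H26.Cone
open Groth.Agent.An.H26.Compress
open Groth.Agent.An.H897.Core (Compressible Side)
open Groth.Agent.An.H897.PiN (Pieces)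

/-- The strip around the `j`-th point. -/
def W (s : ℕ → ℂ) (k j : ℕ) : Set ℂ :=
  {z | (∀ i, i < j → i < k → (s i).re < z.re) ∧ (∀ i, j < i → i < k → z.re < (s i).re)}

/-- The strip between the `j`-th and the `j + 1`-st point. -/
def Q (s : ℕ → ℂ) (k j : ℕ) : Set ℂ := W s k j ∩ W s k (j + 1)

/-- The centre of `Q`. -/
noncomputable def ctr (s : ℕ → ℂ) (j : ℕ) : ℂ := (s j + s (j + 1)) / 2

variable {s : ℕ → ℂ} {k : ℕ}

theorem convex_W (j : ℕ) : Convex ℝ (W s k j) := by
  have h : W s k j = (⋂ (i : ℕ) (_ : i < j) (_ : i < k), {z : ℂ | (s i).re < z.re}) ∩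
      (⋂ (i : ℕ) (_ : j < i) (_ : i < k), {z : ℂ | z.re < (s i).re}) := by
    ext z
    simp only [W, mem_ofPred_eq, mem_inter_iff, mem_iInter]
  rw [h]
  refine Convex.inter ?_ ?_
  · refine convex_iInter fun i => convex_iInter fun _ => convex_iInter fun _ => ?_
    exact convex_halfSpace_re_gt _
  · refine convex_iInter fun i => convex_iInter fun _ => convex_iInter fun _ => ?_
    exact convex_halfSpace_re_lt _

theorem isOpen_W (j : ℕ) : IsOpen (W s k j) := by
  have h : W s k j = (⋂ i ∈ Finset.range k, {z : ℂ | i < j → (s i).re < z.re}) ∩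
      (⋂ i ∈ Finset.range k, {z : ℂ | j < i → z.re < (s i).re}) := by
    ext z
    simp only [W, mem_ofPred_eq, mem_inter_iff, mem_iInter, Finset.mem_range]
    constructor
    · rintro ⟨h1, h2⟩
      exact ⟨fun i hi hj => h1 i hj hi, fun i hi hj => h2 i hj hi⟩
    · rintro ⟨h1, h2⟩
      exact ⟨fun i hi hj => h1 i hj hi, fun i hi hj => h2 i hj hi⟩
  rw [h]
  refine IsOpen.inter ?_ ?_
  · refine isOpen_biInter_finset fun i _ => ?_
    by_cases hi : i < j
    · simp only [hi, forall_const]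
      exact isOpen_lt continuous_const Complex.continuous_re
    · simp only [hi, false_imp_iff]
      exact isOpen_univ
  · refine isOpen_biInter_finset fun i _ => ?_
    by_cases hi : j < i
    · simp only [hi, forall_const]
      exact isOpen_lt Complex.continuous_re continuous_const
    · simp only [hi, false_imp_iff]
      exact isOpen_univ

section

variable (hs : ∀ i j, i < j → j < k → (s i).re < (s j).re)
include hs

theorem mem_W_self {j : ℕ} (hj : j < k) : s j ∈ W s k j :=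
  ⟨fun i hi _ => hs i j hi hj, fun i hi hk => hs j i hi hk⟩

omit hs in
theorem W_diff {S : Set ℂ} (hS : ∀ z ∈ S, ∃ i, i < k ∧ s i = z) (j : ℕ) :
    W s k j \ {s j} ⊆ Sᶜ := by
  rintro z ⟨hz, hzj⟩ hzS
  obtain ⟨i, hi, rfl⟩ := hS z hzS
  rcases lt_trichotomy i j with h | h | h
  · exact lt_irrefl _ (hz.1 i h hi)
  · exact hzj (by rw [h]; rfl)
  · exact lt_irrefl _ (hz.2 i h hi)

omit hs in
theorem W_adj {z : ℂ} {j j' : ℕ} (hj' : j' < k) (h : j < j') (hz : z ∈ W s k j)
    (hz' : z ∈ W s k j') : j' = j + 1 := by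
  by_contra hne
  have h1 : j + 1 < j' := by omega
  have h2 := hz.2 (j + 1) (Nat.lt_succ_self j) (h1.trans hj')
  have h3 := hz'.1 (j + 1) h1 (h1.trans hj')
  exact lt_irrefl _ (h2.trans h3)

theorem W_cover (hk : 0 < k) (z : ℂ) : ∃ j, j < k ∧ z ∈ W s k j := by
  classical
  by_cases h : ∃ j, j < k ∧ z.re ≤ (s j).re
  · obtain ⟨h1, h2⟩ := Nat.find_spec h
    refine ⟨Nat.find h, h1, fun i hi hik => ?_, fun i hi hik => h2.trans_lt (hs _ i hi hik)⟩
    by_contra h3
    exact Nat.find_min h hi ⟨hik, not_lt.1 h3⟩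
  · push Not at h
    exact ⟨k - 1, by omega, fun i _ hik => h i hik, fun i hi hik => by omega⟩

theorem mem_Q {j : ℕ} (hj : j + 1 < k) {z : ℂ} :
    z ∈ Q s k j ↔ (s j).re < z.re ∧ z.re < (s (j + 1)).re := by
  constructor
  · rintro ⟨h1, h2⟩
    exact ⟨h2.1 j (Nat.lt_succ_self j) (Nat.lt_of_succ_lt hj),
      h1.2 (j + 1) (Nat.lt_succ_self j) hj⟩
  · rintro ⟨h1, h2⟩
    have hj' : j < k := Nat.lt_of_succ_lt hj
    refine ⟨⟨fun i hi _ => (hs i j hi hj').trans h1, fun i hi hk => ?_⟩,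
      ⟨fun i hi _ => ?_, fun i hi hk => h2.trans (hs _ i hi hk)⟩⟩
    · rcases Nat.lt_or_ge (j + 1) i with h | h
      · exact h2.trans (hs _ i h hk)
      · have : i = j + 1 := by omega
        rw [this]; exact h2
    · rcases Nat.lt_or_ge i j with h | h
      · exact (hs i j h hj').trans h1
      · have : i = j := by omega
        rw [this]; exact h1

theorem ctr_mem {j : ℕ} (hj : j + 1 < k) : ctr s j ∈ Q s k j := by
  rw [mem_Q hs hj]
  have h := hs j (j + 1) (Nat.lt_succ_self j) hj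
  have h2 : (ctr s j).re = ((s j).re + (s (j + 1)).re) / 2 := by
    simp [ctr]
  rw [h2]
  constructor <;> linarith

theorem Q_rad {j : ℕ} (hj : j + 1 < k) {m : ℕ} (hm : m = j ∨ m = j + 1) {z : ℂ}
    (hz : z ∈ Q s k j) {t : ℝ} (ht : t ∈ Ico (0 : ℝ) 1) : rad (s m) t z ∈ Q s k j := by
  rw [mem_Q hs hj] at hz ⊢
  have h1 : (rad (s m) t z).re = (s m).re + (1 - t) * (z.re - (s m).re) := by
    simp [rad]
  rw [h1]
  obtain ⟨h2, h3⟩ := hz
  obtain ⟨h4, h5⟩ := ht
  rcases hm with rfl | rfl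
  · constructor <;> nlinarith
  · constructor <;> nlinarith

theorem not_mem_Q {j : ℕ} (hj : j + 1 < k) {m : ℕ} (hm : m = j ∨ m = j + 1) :
    s m ∉ Q s k j := by
  rw [mem_Q hs hj]
  rintro ⟨h1, h2⟩
  rcases hm with rfl | rfl
  · exact lt_irrefl _ h1
  · exact lt_irrefl _ h2

theorem Q_sub {S : Set ℂ} (hS : ∀ z ∈ S, ∃ i, i < k ∧ s i = z) {j : ℕ} (hj : j + 1 < k) :
    Q s k j ⊆ Sᶜ := by
  intro z hz
  refine W_diff hS j ⟨hz.1, ?_⟩
  intro h
  rw [mem_singleton_iff] at h
  exact not_mem_Q hs hj (Or.inl rfl) (h ▸ hz)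

omit hs in
theorem Q_disj {j j' : ℕ} (hj : j + 1 < k) (hj' : j' + 1 < k) {z : ℂ} (hz : z ∈ Q s k j)
    (hz' : z ∈ Q s k j') : j = j' := by
  by_contra hne
  rcases Nat.lt_or_gt_of_ne hne with h | h
  · have := W_adj (s := s) hj' (by omega : j < j' + 1) hz.1 hz'.2
    omega
  · have := W_adj (s := s) hj (by omega : j' < j + 1) hz'.1 hz.2
    omega

end

end Groth.Agent.An.H26.Strips
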